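import Mathlib
import Groth.Prelude.Def_DerCA
import Groth.Agent.TowerLib.ProIso

/-!
# Pro-isomorphisms of towers of complexes and quotients by `g ^ n`
-/

set_option linter.style.haveILetI false
set_option backward.isDefEq.respectTransparency false
set_option linter.unusedSimpArgs false

universe w v u

open CategoryTheory CategoryTheory.Limits CategoryTheory.Pretriangulated Opposite CochainComplex

attribute [local instance] HasDerivedCategory.standard

namespace Groth.Agent.InvDTen65

open Groth.Agent.TowerLib.EssConst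

section General

variable {C : Type u} [Category.{v} C]

lemma proIso_comp {X Y Z : ARSys.PS C} {f : X ⟶ Y} {g : Y ⟶ Z} (hf : DerCA.IsProIso f)
    (hg : DerCA.IsProIso g) : DerCA.IsProIso (f ≫ g) := fun n => by
  obtain ⟨m, hm, b, h1, h2⟩ := hf n
  obtain ⟨p, hp, c, h3, h4⟩ := hg m
  refine ⟨p, hm.trans hp, c ≫ b, ?_, ?_⟩
  · rw [NatTrans.comp_app, Category.assoc, reassoc_of% h3, ← tr_nat_assoc f hp, h1, tr_comp]
  · rw [NatTrans.comp_app, Category.assoc, reassoc_of% h2, tr_nat g hm, reassoc_of% h4, tr_comp]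

lemma proIso_cancel_left {X Y Z : ARSys.PS C} {f : X ⟶ Y} {g : Y ⟶ Z} (hf : DerCA.IsProIso f)
    (hfg : DerCA.IsProIso (f ≫ g)) : DerCA.IsProIso g := fun n => by
  obtain ⟨m, hm, d, h1, h2⟩ := hfg n
  obtain ⟨p, hp, c, -, h4⟩ := hf m
  rw [NatTrans.comp_app] at h1 h2
  rw [Category.assoc] at h1
  refine ⟨p, hm.trans hp, ARSys.tr Z hp ≫ d ≫ f.app (op n), ?_, ?_⟩
  · rw [← tr_nat_assoc g hp, ← h4, Category.assoc, reassoc_of% h1, tr_nat f hm,
      reassoc_of% h4, tr_comp]
  · rw [Category.assoc, Category.assoc, h2, tr_comp]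

lemma proIso_of_isIso {X Y : ARSys.PS C} (f : X ⟶ Y) [IsIso f] : DerCA.IsProIso f := fun n =>
  ⟨n, le_rfl, inv (f.app (op n)), by rw [IsIso.hom_inv_id, tr_refl], by rw [IsIso.inv_hom_id, tr_refl]⟩

variable {A : Type w} [CommRing A] [Preadditive C] [CategoryTheory.Linear A C]

lemma le_of_hom {i j : ℕᵒᵖ} (f : i ⟶ j) : j.unop ≤ i.unop := f.unop.le

/-- The tower with transition maps multiplied by powers of `g`. -/
@[simps]
def twist (g : A) (X : ARSys.PS C) : ARSys.PS C where
  obj n := X.obj n
  map {i j} f := g ^ (i.unop - j.unop) • X.map f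
  map_id i := by simp
  map_comp {i j k} f h := by
    rw [X.map_comp, Linear.smul_comp, Linear.comp_smul, smul_smul, ← pow_add]
    congr 2
    have := le_of_hom f
    have := le_of_hom h
    omega

/-- Multiplication by `g ^ n`. -/
@[simps]
def mult (g : A) (X : ARSys.PS C) : twist g X ⟶ X where
  app n := g ^ n.unop • 𝟙 (X.obj n)
  naturality {i j} f := by
    change (g ^ (i.unop - j.unop) • X.map f) ≫ (g ^ j.unop • 𝟙 (X.obj j)) = (g ^ i.unop • 𝟙 (X.obj i)) ≫ X.map f
    rw [Linear.smul_comp, Linear.comp_smul, Category.comp_id, Linear.smul_comp, Category.id_comp, smul_smul,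
      ← pow_add, Nat.sub_add_cancel (le_of_hom f)]

/-- Functoriality of `twist`. -/
@[simps]
def twistMap (g : A) {X Y : ARSys.PS C} (φ : X ⟶ Y) : twist g X ⟶ twist g Y where
  app n := φ.app n
  naturality {i j} f := by simp [Linear.smul_comp, Linear.comp_smul]

lemma mult_nat (g : A) {X Y : ARSys.PS C} (φ : X ⟶ Y) : mult g X ≫ φ = twistMap g φ ≫ mult g Y := by
  ext n
  change (g ^ n.unop • 𝟙 (X.obj n)) ≫ φ.app n = φ.app n ≫ (g ^ n.unop • 𝟙 (Y.obj n))
  rw [Linear.smul_comp, Linear.comp_smul, Category.id_comp, Category.comp_id]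

variable [HasCokernels C]

/-- Levelwise cokernel. -/
@[simps]
noncomputable def cokTower {X' X : ARSys.PS C} (s : X' ⟶ X) : ARSys.PS C where
  obj n := cokernel (s.app n)
  map {i j} f := cokernel.map _ _ (X'.map f) (X.map f) (s.naturality f).symm
  map_id i := by ext; simp
  map_comp f h := by ext; simp

/-- The projection to the cokernel. -/
@[simps]
noncomputable def cokπ {X' X : ARSys.PS C} (s : X' ⟶ X) : X ⟶ cokTower s where
  app n := cokernel.π (s.app n)
  naturality {i j} f := by simp

/-- Functoriality of levelwise cokernels. -/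
@[simps]
noncomputable def cokTowerMap {X' X Y' Y : ARSys.PS C} (s : X' ⟶ X) (t : Y' ⟶ Y) (α : X' ⟶ Y')
    (β : X ⟶ Y) (w : s ≫ β = α ≫ t) : cokTower s ⟶ cokTower t where
  app n := cokernel.map _ _ (α.app n) (β.app n) (NatTrans.congr_app w n)
  naturality {i j} f := by
    simp only [cokTower_map]
    apply coequalizer.hom_ext
    simp

end General

section Complexes

variable {A : Type u} [CommRing A]

local notation "Q" => (DerivedCategory.Q : DRing.Cx A ⥤ Dual.D A)

/-- Levelwise mapping cones. -/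
@[simps]
noncomputable def coneTower {X' X : ARSys.PS (DRing.Cx A)} (s : X' ⟶ X) : ARSys.PS (DRing.Cx A) where
  obj n := mappingCone (s.app n)
  map {i j} f := mappingCone.map _ _ (X'.map f) (X.map f) (s.naturality f).symm
  map_id i := by
    rw [← mappingCone.map_id (s.app i)]
    congr 1 <;> simp
  map_comp {i j k} f h := by
    rw [← mappingCone.map_comp]
    congr 1 <;> simp

/-- Functoriality of levelwise mapping cones. -/
@[simps]
noncomputable def coneTowerMap {X' X Y' Y : ARSys.PS (DRing.Cx A)} (s : X' ⟶ X) (t : Y' ⟶ Y)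
    (α : X' ⟶ Y') (β : X ⟶ Y) (w : s ≫ β = α ≫ t) : coneTower s ⟶ coneTower t where
  app n := mappingCone.map _ _ (α.app n) (β.app n) (NatTrans.congr_app w n)
  naturality {i j} f := by
    simp only [coneTower_map]
    rw [← mappingCone.map_comp, ← mappingCone.map_comp]
    congr 1
    · exact α.naturality f
    · exact β.naturality f

lemma map_desc {K₁ L₁ K₂ L₂ Z : DRing.Cx A} (φ₁ : K₁ ⟶ L₁) (φ₂ : K₂ ⟶ L₂) (a : K₁ ⟶ K₂) (b : L₁ ⟶ L₂)
    (w : φ₁ ≫ b = a ≫ φ₂) (h : L₂ ⟶ Z) (h₂ : φ₂ ≫ h = 0) :
    mappingCone.map φ₁ φ₂ a b w ≫ mappingCone.desc φ₂ 0 h (by simp [h₂]) =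
      mappingCone.desc φ₁ 0 (b ≫ h) (by simp [reassoc_of% w, h₂]) := by
  refine HomologicalComplex.hom_ext _ _ fun n => ?_
  simp [mappingCone.ext_from_iff _ (n + 1) n rfl, mappingCone.map]

lemma desc_comp {K L Z Z' : DRing.Cx A} (φ : K ⟶ L) (h : L ⟶ Z) (hh : φ ≫ h = 0) (c : Z ⟶ Z') :
    mappingCone.desc φ 0 h (by simp [hh]) ≫ c = mappingCone.desc φ 0 (h ≫ c) (by simp [reassoc_of% hh]) := by
  refine HomologicalComplex.hom_ext _ _ fun n => ?_
  simp [mappingCone.ext_from_iff _ (n + 1) n rfl]

/-- The map from the cone to the cokernel. -/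
noncomputable def toCok {X' X : ARSys.PS (DRing.Cx A)} (s : X' ⟶ X) : coneTower s ⟶ cokTower s where
  app n := mappingCone.desc (s.app n) 0 (cokernel.π (s.app n)) (by simp)
  naturality {i j} f := by
    simp only [coneTower_map, cokTower_map]
    rw [map_desc _ _ _ _ _ _ (cokernel.condition _), desc_comp _ _ (cokernel.condition _)]
    congr 1
    simp

/-- If the kernels of `s` are pro-zero, the cone is the cokernel, as pro-objects. -/
theorem proIso_toCok {X' X : ARSys.PS (DRing.Cx A)} (s : X' ⟶ X)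
    (hs : ∀ n : ℕ, ∃ (m : ℕ) (h : n ≤ m), kernel.ι (s.app (op m)) ≫ ARSys.tr X' h = 0) :
    DerCA.IsProIso (Functor.whiskerRight (toCok s) Q) := by
  intro n
  obtain ⟨m, hm, hz⟩ := hs n
  let σ := s.app (op m)
  let p : X'.obj (op m) ⟶ Abelian.coimage σ := Abelian.coimage.π σ
  let σb : Abelian.coimage σ ⟶ X.obj (op m) := Abelian.factorThruCoimage σ
  have hp : p ≫ σb = σ := Abelian.coimage.fac σ
  let ub : Abelian.coimage σ ⟶ X'.obj (op n) := cokernel.desc _ (ARSys.tr X' hm) hz
  have hub : p ≫ ub = ARSys.tr X' hm := cokernel.π_desc _ _ _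
  let S : ShortComplex (DRing.Cx A) := ShortComplex.mk σb (cokernel.π σ)
    (by rw [← cancel_epi p, reassoc_of% hp, cokernel.condition, comp_zero])
  have hS : S.ShortExact := by
    refine { exact := ?_, mono_f := ?_, epi_g := ?_ }
    · let S₀ : ShortComplex (DRing.Cx A) := ShortComplex.mk σ (cokernel.π σ) (cokernel.condition σ)
      let φ : S₀ ⟶ S := { τ₁ := p, τ₂ := 𝟙 _, τ₃ := 𝟙 _, comm₁₂ := hp.trans (Category.comp_id _).symm,
                          comm₂₃ := (Category.id_comp _).trans (Category.comp_id _).symm }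
      haveI : Epi φ.τ₁ := inferInstanceAs (Epi p)
      haveI : IsIso φ.τ₂ := inferInstanceAs (IsIso (𝟙 _))
      haveI : Mono φ.τ₃ := inferInstanceAs (Mono (𝟙 _))
      exact (ShortComplex.exact_iff_of_epi_of_isIso_of_mono φ).1 (ShortComplex.exact_cokernel σ)
    · exact inferInstanceAs (Mono (Abelian.factorThruCoimage σ))
    · exact inferInstanceAs (Epi (cokernel.π σ))
  haveI := mappingCone.quasiIso_descShortComplex hS
  haveI : IsIso (DerivedCategory.Q.map (mappingCone.descShortComplex S)) :=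
    (DerivedCategory.isIso_Q_map_iff_quasiIso _ _).2 inferInstance
  have hT : σb ≫ ARSys.tr X hm = ub ≫ s.app (op n) := by
    rw [← cancel_epi p, reassoc_of% hp, reassoc_of% hub]
    exact (s.naturality _).symm
  let T := mappingCone.map σb (s.app (op n)) ub (ARSys.tr X hm) hT
  let β := mappingCone.map σ σb p (𝟙 _) (by rw [Category.comp_id, hp])
  refine ⟨m, hm, inv (DerivedCategory.Q.map (mappingCone.descShortComplex S)) ≫ DerivedCategory.Q.map T, ?_, ?_⟩
  · change DerivedCategory.Q.map ((toCok s).app (op m)) ≫ _ = DerivedCategory.Q.map ((coneTower s).map (homOfLE hm).op)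
    have h1 : (toCok s).app (op m) = β ≫ mappingCone.descShortComplex S := by
      dsimp [toCok, β, mappingCone.descShortComplex, S]
      rw [map_desc _ _ _ _ _ _ (by rw [← cancel_epi p, reassoc_of% hp, cokernel.condition, comp_zero])]
      simp [σ]
    have h2 : (coneTower s).map (homOfLE hm).op = β ≫ T := by
      simp only [coneTower_map, β, T]
      rw [← mappingCone.map_comp]
      congr 1
      exact hub.symm
    rw [h1, h2, DerivedCategory.Q.map_comp, DerivedCategory.Q.map_comp, Category.assoc, IsIso.hom_inv_id_assoc]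
  · change (_ ≫ DerivedCategory.Q.map T) ≫ DerivedCategory.Q.map ((toCok s).app (op n)) = DerivedCategory.Q.map ((cokTower s).map (homOfLE hm).op)
    rw [Category.assoc, IsIso.inv_comp_eq, ← DerivedCategory.Q.map_comp, ← DerivedCategory.Q.map_comp]
    congr 1
    dsimp only [T, toCok]
    rw [map_desc _ _ _ _ _ _ (cokernel.condition _)]
    dsimp only [mappingCone.descShortComplex, S]
    rw [desc_comp _ _ (by rw [← cancel_epi p, reassoc_of% hp, cokernel.condition, comp_zero])]
    congr 1
    simp [σ]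

/-- Five lemma for levelwise cones. -/
theorem proIso_coneTowerMap {X' X Y' Y : ARSys.PS (DRing.Cx A)} (s : X' ⟶ X) (t : Y' ⟶ Y)
    (α : X' ⟶ Y') (β : X ⟶ Y) (w : s ≫ β = α ≫ t)
    (hα : DerCA.IsProIso (Functor.whiskerRight α Q)) (hβ : DerCA.IsProIso (Functor.whiskerRight β Q)) :
    DerCA.IsProIso (Functor.whiskerRight (coneTowerMap s t α β w) Q) := by
  let q : ∀ {U V : ARSys.PS (DRing.Cx A)} (e : U ⟶ V), (V ⋙ Q) ⟶ coneTower e ⋙ Q := fun {U V} e =>
    { app := fun n => DerivedCategory.Q.map (mappingCone.inr (e.app n))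
      naturality := fun i j f => by
        simp only [Functor.comp_map, coneTower_map, ← DerivedCategory.Q.map_comp]
        congr 1
        simp [mappingCone.map] }
  let h : ∀ {U V : ARSys.PS (DRing.Cx A)} (e : U ⟶ V),
      coneTower e ⋙ Q ⟶ (U ⋙ Q) ⋙ CategoryTheory.shiftFunctor (Dual.D A) (1 : ℤ) := fun {U V} e =>
    { app := fun n => DerivedCategory.Q.map (mappingCone.triangle (e.app n)).mor₃ ≫ ((DerivedCategory.Q : DRing.Cx A ⥤ Dual.D A).commShiftIso (1 : ℤ)).hom.app (U.obj n)
      naturality := fun i j f => by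
        have e3 := (mappingCone.triangleMap (e.app i) (e.app j) (U.map f) (V.map f) (e.naturality f).symm).comm₃
        simp only [Functor.comp_map, coneTower_map]
        dsimp [mappingCone.triangleMap] at e3
        rw [← Category.assoc, ← DerivedCategory.Q.map_comp]
        erw [← e3]
        rw [DerivedCategory.Q.map_comp, Category.assoc, Category.assoc]
        congr 1
        exact ((DerivedCategory.Q : DRing.Cx A ⥤ Dual.D A).commShiftIso (1 : ℤ)).hom.naturality (U.map f) }
  let k : ∀ {U V : ARSys.PS (DRing.Cx A)} (e : U ⟶ V),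
      (U ⋙ Q) ⋙ CategoryTheory.shiftFunctor (Dual.D A) (1 : ℤ) ⟶ (V ⋙ Q) ⋙ CategoryTheory.shiftFunctor (Dual.D A) (1 : ℤ) := fun {U V} e =>
    -(Functor.whiskerRight (Functor.whiskerRight e Q) (CategoryTheory.shiftFunctor (Dual.D A) (1 : ℤ)))
  have hT : ∀ {U V : ARSys.PS (DRing.Cx A)} (e : U ⟶ V) (n : ℕ),
      Triangle.mk ((q e).app (op n)) ((h e).app (op n)) ((k e).app (op n)) ∈ distTriang (Dual.D A) :=
    fun {U V} e n => rot_of_distTriang _ (DerivedCategory.mappingCone_triangle_distinguished (e.app (op n)))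
  refine proIso_middle (aX := q s) (qX := h s) (hX := k s) (aY := q t) (qY := h t) (hY := k t)
    (hT s) (hT t) (f₁ := Functor.whiskerRight β Q)
    (f₃ := Functor.whiskerRight (Functor.whiskerRight α Q) (CategoryTheory.shiftFunctor (Dual.D A) (1 : ℤ)))
    (fun n => ?_) (fun n => ?_) (fun n => ?_) hβ (proIso_shift hα)
  · simp only [q, Functor.whiskerRight_app, coneTowerMap_app, ← DerivedCategory.Q.map_comp]
    congr 1
    simp [mappingCone.map]
  · have e3 := (mappingCone.triangleMap (s.app (op n)) (t.app (op n)) (α.app (op n)) (β.app (op n))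
      (NatTrans.congr_app w (op n))).comm₃
    simp only [h, Functor.whiskerRight_app, coneTowerMap_app]
    dsimp [mappingCone.triangleMap] at e3
    rw [← Category.assoc, ← DerivedCategory.Q.map_comp]
    erw [← e3]
    rw [DerivedCategory.Q.map_comp, Category.assoc, Category.assoc]
    congr 1
    exact (((DerivedCategory.Q : DRing.Cx A ⥤ Dual.D A).commShiftIso (1 : ℤ)).hom.naturality (α.app (op n))).symm
  · have e1 := congrArg (CategoryTheory.shiftFunctor (Dual.D A) (1 : ℤ)).map
      (congrArg DerivedCategory.Q.map (NatTrans.congr_app w (op n)))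
    simp only [NatTrans.comp_app, Functor.map_comp] at e1
    simp only [k, NatTrans.app_neg, Functor.whiskerRight_app, Preadditive.neg_comp, Preadditive.comp_neg]
    exact congrArg Neg.neg e1

/-- A twisted pro-isomorphism is a pro-isomorphism. -/
lemma proIso_twistMap (g : A) {X Y : ARSys.PS (DRing.Cx A)} (φ : X ⟶ Y)
    (h : DerCA.IsProIso (Functor.whiskerRight φ Q)) :
    DerCA.IsProIso (Functor.whiskerRight (twistMap g φ) Q) := fun n => by
  obtain ⟨m, hm, b, h1, h2⟩ := h n
  refine ⟨m, hm, g ^ (m - n) • b, ?_, ?_⟩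
  · change DerivedCategory.Q.map (φ.app (op m)) ≫ (g ^ (m - n) • b) = DerivedCategory.Q.map (g ^ (m - n) • X.map (homOfLE hm).op)
    rw [Linear.comp_smul, Functor.map_smul]
    exact congrArg _ h1
  · change (g ^ (m - n) • b) ≫ DerivedCategory.Q.map (φ.app (op n)) = DerivedCategory.Q.map (g ^ (m - n) • Y.map (homOfLE hm).op)
    rw [Linear.smul_comp, Functor.map_smul]
    exact congrArg _ h2

/-- Elements killed by `g ^ m` die in a twisted transition. -/
def TorsionProZero (g : A) (X : ARSys.PS (DRing.Cx A)) : Prop :=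
  ∀ n : ℕ, ∃ (m : ℕ) (h : n ≤ m), ∀ (q : ℤ) (x : (X.obj (op m)).X q),
    g ^ m • x = 0 → g ^ (m - n) • ((ARSys.tr X h).f q).hom x = 0

lemma TorsionProZero.kernel {g : A} {X : ARSys.PS (DRing.Cx A)} (h : TorsionProZero g X) (n : ℕ) :
    ∃ (m : ℕ) (hm : n ≤ m), Limits.kernel.ι ((mult g X).app (op m)) ≫ ARSys.tr (twist g X) hm = 0 := by
  obtain ⟨m, hm, he⟩ := h n
  refine ⟨m, hm, ?_⟩
  ext q : 1
  ext x
  have hc := congrArg (fun z => (z.f q).hom x) (Limits.kernel.condition ((mult g X).app (op m)))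
  exact he q _ hc

/-- Passing to quotients by `g ^ n` preserves pro-isomorphisms. -/
theorem proIso_quot (g : A) {X Y : ARSys.PS (DRing.Cx A)} (φ : X ⟶ Y)
    (hX : TorsionProZero g X) (hY : TorsionProZero g Y) (h : DerCA.IsProIso (Functor.whiskerRight φ Q)) :
    DerCA.IsProIso (Functor.whiskerRight
      (cokTowerMap (mult g X) (mult g Y) (twistMap g φ) φ (mult_nat g φ)) Q) := by
  have hc := proIso_coneTowerMap (mult g X) (mult g Y) (twistMap g φ) φ (mult_nat g φ) (proIso_twistMap g φ h) h
  refine proIso_cancel_left (proIso_toCok (mult g X) hX.kernel) ?_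
  rw [← Functor.whiskerRight_comp]
  have e : toCok (mult g X) ≫ cokTowerMap (mult g X) (mult g Y) (twistMap g φ) φ (mult_nat g φ) =
      coneTowerMap (mult g X) (mult g Y) (twistMap g φ) φ (mult_nat g φ) ≫ toCok (mult g Y) := by
    refine NatTrans.ext (funext fun n => ?_)
    simp only [NatTrans.comp_app, toCok, cokTowerMap_app, coneTowerMap_app]
    rw [map_desc _ _ _ _ _ _ (cokernel.condition _), desc_comp _ _ (cokernel.condition _)]
    congr 1
    simp
  rw [e, Functor.whiskerRight_comp]
  exact proIso_comp hc (proIso_toCok (mult g Y) hY.kernel)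

end Complexes

end Groth.Agent.InvDTen65
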