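import Mathlib
import Groth.Agent.InvDTen65.ProStep
import Groth.Prelude.Def_DTen

/-!
# Towers of quotients by powers of finitely many elements, tensored with a complex
-/

set_option linter.style.haveILetI false
set_option backward.isDefEq.respectTransparency false
set_option linter.unusedSimpArgs false

universe u

open CategoryTheory CategoryTheory.Limits MonoidalCategory Opposite

attribute [local instance] HasDerivedCategory.standard

namespace Groth.Agent.InvDTen65

open Groth.Agent.TowerLib.EssConst

variable {A : Type u} [CommRing A]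

/-- A complex tensored termwise with a module. -/
noncomputable def tenM (K : DRing.Cx A) : ModuleCat.{u} A ⥤ DRing.Cx A where
  obj M := ((tensorRight M).mapHomologicalComplex (ComplexShape.up ℤ)).obj K
  map {M N} h :=
    (NatTrans.mapHomologicalComplex ((tensoringRight (ModuleCat.{u} A)).map h) (ComplexShape.up ℤ)).app K
  map_id M := by ext q : 1; simp
  map_comp f g := by ext q : 1; simp

lemma tenM_map_f (K : DRing.Cx A) {M N : ModuleCat.{u} A} (h : M ⟶ N) (q : ℤ) :
    ((tenM K).map h).f q = K.X q ◁ h := rfl

instance (K : DRing.Cx A) : (tenM K).Additive where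
  map_add {M N f g} := by
    ext q : 1
    exact MonoidalPreadditive.whiskerLeft_add _ _

instance (K : DRing.Cx A) : (tenM K).Linear A where
  map_smul f r := by
    ext q : 1
    exact MonoidalLinear.whiskerLeft_smul _ _ _

instance (K : DRing.Cx A) : PreservesFiniteColimits (tenM K) :=
  ⟨fun J _ _ => HomologicalComplex.preservesColimitsOfShape_of_eval _ fun q =>
    preservesColimitsOfShape_of_natIso
      (NatIso.ofComponents (fun M => Iso.refl _) (fun f => by simp [tenM]) :
        tensorLeft (K.X q) ≅ tenM K ⋙ HomologicalComplex.eval _ _ q)⟩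

/-- Functoriality in the complex. -/
noncomputable def tenMap {F K : DRing.Cx A} (r : F ⟶ K) : tenM F ⟶ tenM K where
  app M := ((tensorRight M).mapHomologicalComplex (ComplexShape.up ℤ)).map r
  naturality {M N} h := by
    ext q : 1
    exact MonoidalCategory.whisker_exchange (r.f q) h

/-- The tower of quotients by the `n`-th powers of the elements of a list. -/
noncomputable def quotTower : List A → ARSys.PS (ModuleCat.{u} A)
  | [] => (Functor.const ℕᵒᵖ).obj (ModuleCat.of A A)
  | g :: fs => cokTower (mult g (quotTower fs))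

/-- The augmentation. -/
noncomputable def augm : (fs : List A) → (Functor.const ℕᵒᵖ).obj (ModuleCat.of A A) ⟶ quotTower fs
  | [] => 𝟙 _
  | g :: fs => augm fs ≫ cokπ (mult g (quotTower fs))

lemma epi_augm : ∀ (fs : List A) (n : ℕᵒᵖ), Epi ((augm fs).app n)
  | [], n => inferInstanceAs (Epi (𝟙 (ModuleCat.of A A)))
  | g :: fs, n => by
    haveI := epi_augm fs n
    exact inferInstanceAs (Epi ((augm fs).app n ≫ cokernel.π ((mult g (quotTower fs)).app n)))

instance (fs : List A) (n : ℕᵒᵖ) : Epi ((augm fs).app n) := epi_augm fs n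

lemma finite_quotTower (fs : List A) (n : ℕᵒᵖ) : Module.Finite A ((quotTower fs).obj n) :=
  Module.Finite.of_surjective (R := A) (M := A) ((augm fs).app n).hom
    ((ModuleCat.epi_iff_surjective _).1 inferInstance)

lemma pow_smul_augm : ∀ (fs : List A) (n : ℕᵒᵖ) (g : A), g ∈ fs → g ^ n.unop • (augm fs).app n = 0
  | f :: fs, n, g, hg => by
    let s := (mult f (quotTower fs)).app n
    change g ^ n.unop • ((augm fs).app n ≫ cokernel.π s) = 0
    rcases List.mem_cons.1 hg with rfl | hg
    · rw [← Linear.comp_smul]
      have : g ^ n.unop • cokernel.π s = s ≫ cokernel.π s := by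
        change _ = (g ^ n.unop • 𝟙 _) ≫ _
        rw [Linear.smul_comp]
        erw [Category.id_comp]
      rw [this, cokernel.condition, comp_zero]
    · rw [← Linear.smul_comp, pow_smul_augm fs n g hg, zero_comp]

lemma exists_desc : ∀ (fs : List A) (n : ℕᵒᵖ) {N : ModuleCat.{u} A} (φ : ModuleCat.of A A ⟶ N),
    (∀ g ∈ fs, g ^ n.unop • φ = 0) → ∃ v : (quotTower fs).obj n ⟶ N, (augm fs).app n ≫ v = φ
  | [], n, N, φ, _ => ⟨φ, Category.id_comp _⟩
  | f :: fs, n, N, φ, h => by
    obtain ⟨v, hv⟩ := exists_desc fs n φ fun g hg => h g (List.mem_cons_of_mem _ hg)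
    have h0 : (mult f (quotTower fs)).app n ≫ v = 0 := by
      change (f ^ n.unop • 𝟙 _) ≫ v = 0
      rw [Linear.smul_comp]
      erw [Category.id_comp]
      rw [← cancel_epi ((augm fs).app n), Linear.comp_smul, hv, comp_zero]
      exact h f (List.mem_cons_self ..)
    exact ⟨cokernel.desc _ v h0, (Category.assoc _ _ _).trans ((congrArg _ (cokernel.π_desc _ _ _)).trans hv)⟩

/-- In a Noetherian module, torsion for the powers of `g` has bounded exponent. -/
lemma exists_pow_kill (g : A) (N : Type u) [AddCommGroup N] [Module A N] [IsNoetherian A N] :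
    ∃ c : ℕ, ∀ (k : ℕ) (y : N), g ^ k • y = 0 → g ^ c • y = 0 := by
  let S : ℕ →o Submodule A N :=
    ⟨fun k => LinearMap.ker (LinearMap.lsmul A N (g ^ k)), fun i j hij y hy => by
      obtain ⟨d, rfl⟩ := Nat.exists_eq_add_of_le hij
      simp only [LinearMap.mem_ker, LinearMap.lsmul_apply] at hy ⊢
      rw [add_comm, pow_add, mul_smul, hy, smul_zero]⟩
  obtain ⟨c, hc⟩ := monotone_stabilizes_iff_noetherian.2 ‹IsNoetherian A N› S
  refine ⟨c, fun k y hy => ?_⟩
  have h1 : y ∈ S (max c k) := S.monotone (le_max_right c k) hy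
  rw [← hc _ (le_max_left c k)] at h1
  exact h1

variable [IsNoetherianRing A]

lemma torsionProZero_tenM_of_finite (g : A) (fs : List A) {K : DRing.Cx A} {a b : ℤ}
    (hK : DRing.VanishesOutside K a b) (hKf : ∀ i, Module.Finite A (K.X i)) :
    TorsionProZero g (quotTower fs ⋙ tenM K) := fun n => by
  classical
  let N : ℤ → ModuleCat.{u} A := fun q => K.X q ⊗ (quotTower fs).obj (op n)
  haveI : ∀ q, IsNoetherian A (N q) := fun q => by
    haveI := hKf q
    haveI := finite_quotTower fs (op n)
    haveI : Module.Finite A (N q) :=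
      inferInstanceAs (Module.Finite A (TensorProduct A (K.X q) ((quotTower fs).obj (op n))))
    exact isNoetherian_of_isNoetherianRing_of_finite A _
  choose c hc using fun q => exists_pow_kill g (N q)
  let C := (Finset.Icc a b).sup c
  refine ⟨n + C, Nat.le_add_right n C, fun q x hx => ?_⟩
  let u := (ARSys.tr (quotTower fs ⋙ tenM K) (Nat.le_add_right n C)).f q
  have hu : g ^ (n + C) • u.hom x = 0 := by rw [← map_smul, hx, map_zero]
  by_cases hq : q < a ∨ b < q
  · haveI := ModuleCat.subsingleton_of_isZero ((tensorRight ((quotTower fs).obj (op n))).map_isZero (hK q hq))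
    exact @Subsingleton.elim (N q) this _ _
  · have hle : c q ≤ C := Finset.le_sup (Finset.mem_Icc.2 (by omega))
    obtain ⟨d, hd⟩ := Nat.exists_eq_add_of_le' hle
    have e : g ^ C • u.hom x = 0 := by
      conv_lhs => arg 1; rw [hd]
      rw [pow_add, mul_smul, show g ^ c q • u.hom x = 0 from hc q (n + C) _ hu, smul_zero]
    rw [Nat.add_sub_cancel_left]
    exact e

lemma torsionProZero_tenM_of_flat (g : A) (fs : List A) {F : DRing.Cx A}
    (hF : ∀ i, Module.Flat A (F.X i)) : TorsionProZero g (quotTower fs ⋙ tenM F) := fun n => by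
  haveI := finite_quotTower fs (op n)
  haveI : IsNoetherian A ((quotTower fs).obj (op n)) := isNoetherian_of_isNoetherianRing_of_finite A _
  obtain ⟨c, hc⟩ := exists_pow_kill g ((quotTower fs).obj (op n))
  refine ⟨n + c, Nat.le_add_right n c, fun q x hx => ?_⟩
  let M : Type u := (quotTower fs).obj (op (n + c))
  let u : M →ₗ[A] (quotTower fs).obj (op n) :=
    (ARSys.tr (quotTower fs) (Nat.le_add_right n c)).hom
  let f : M →ₗ[A] M := LinearMap.lsmul A M (g ^ (n + c))
  haveI := hF q
  have hex : Function.Exact ((LinearMap.ker f).subtype.lTensor (F.X q)) (f.lTensor (F.X q)) :=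
    Module.Flat.lTensor_exact (F.X q) f.exact_subtype_ker_map
  have hxf : f.lTensor (F.X q) x = g ^ (n + c) • x := by
    have e : f.lTensor (F.X q) = g ^ (n + c) • LinearMap.id := by
      ext y z
      exact TensorProduct.tmul_smul (g ^ (n + c)) y z
    rw [e]
    rfl
  obtain ⟨z, rfl⟩ := (hex x).1 (hxf.trans hx)
  have h0 : (g ^ c • u) ∘ₗ (LinearMap.ker f).subtype = 0 := LinearMap.ext fun y => by
    refine hc (n + c) _ ?_
    rw [← map_smul]
    exact (congrArg u (show g ^ (n + c) • (y : M) = 0 from y.2)).trans (map_zero u)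
  have h1 := LinearMap.congr_fun (congrArg (LinearMap.lTensor (F.X q)) h0) z
  rw [LinearMap.lTensor_zero, LinearMap.lTensor_comp, LinearMap.zero_apply, LinearMap.lTensor_smul] at h1
  rw [Nat.add_sub_cancel_left]
  exact h1

/-- The main induction. -/
theorem proIso_quotTower {F K : DRing.Cx A} (r : F ⟶ K) [QuasiIso r] {a b : ℤ}
    (hK : DRing.VanishesOutside K a b) (hKf : ∀ i, Module.Finite A (K.X i))
    (hF : ∀ i, Module.Flat A (F.X i)) : ∀ fs : List A,
    DerCA.IsProIso (Functor.whiskerRight (Functor.whiskerLeft (quotTower fs) (tenMap r))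
      (DerivedCategory.Q : DRing.Cx A ⥤ Dual.D A))
  | [] => by
    haveI : QuasiIso ((tenMap r).app (ModuleCat.of A A)) :=
      (quasiIso_iff_of_arrow_mk_iso _ _ (((Functor.mapArrowFunctor _ _).mapIso
        (NatIso.mapHomologicalComplex (rightUnitorNatIso (ModuleCat.{u} A)) (ComplexShape.up ℤ) ≪≫
          Functor.mapHomologicalComplexIdIso _ _)).app (Arrow.mk r))).2 (by assumption)
    haveI : IsIso (DerivedCategory.Q.map ((tenMap r).app (ModuleCat.of A A))) :=
      (DerivedCategory.isIso_Q_map_iff_quasiIso _ _).2 inferInstance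
    haveI : IsIso (Functor.whiskerRight (Functor.whiskerLeft (quotTower ([] : List A)) (tenMap r))
        (DerivedCategory.Q : DRing.Cx A ⥤ Dual.D A)) :=
      @NatIso.isIso_of_isIso_app _ _ _ _ _ _ _ fun n => by assumption
    exact proIso_of_isIso _
  | g :: fs => by
    let φ := Functor.whiskerLeft (quotTower fs) (tenMap r)
    have h := proIso_quot g φ (torsionProZero_tenM_of_flat g fs hF)
      (torsionProZero_tenM_of_finite g fs hK hKf) (proIso_quotTower r hK hKf hF fs)
    have hs : ∀ (L : DRing.Cx A) (n : ℕᵒᵖ),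
        (mult g (quotTower fs ⋙ tenM L)).app n = (tenM L).map ((mult g (quotTower fs)).app n) := fun L n => by
      change g ^ n.unop • 𝟙 _ = (tenM L).map (g ^ n.unop • 𝟙 _)
      rw [Functor.map_smul, CategoryTheory.Functor.map_id]
      rfl
    let e : ∀ L : DRing.Cx A, cokTower (mult g (quotTower fs ⋙ tenM L)) ≅ quotTower (g :: fs) ⋙ tenM L :=
      fun L => NatIso.ofComponents
        (fun n => cokernelIsoOfEq (hs L n) ≪≫ asIso (cokernelComparison _ (tenM L)))
        (fun {i j} f => by
          apply coequalizer.hom_ext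
          simp [quotTower])
    have heq : Functor.whiskerRight (Functor.whiskerLeft (quotTower (g :: fs)) (tenMap r))
        (DerivedCategory.Q : DRing.Cx A ⥤ Dual.D A) =
        (Functor.isoWhiskerRight (e F) _).inv ≫
          Functor.whiskerRight (cokTowerMap (mult g (quotTower fs ⋙ tenM F)) (mult g (quotTower fs ⋙ tenM K))
            (twistMap g φ) φ (mult_nat g φ)) _ ≫ (Functor.isoWhiskerRight (e K) _).hom := by
      rw [Iso.eq_inv_comp]
      refine NatTrans.ext (funext fun n => ?_)
      simp only [Functor.isoWhiskerRight_hom, NatTrans.comp_app, Functor.whiskerRight_app, ← Functor.map_comp]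
      congr 1
      apply coequalizer.hom_ext
      simp [e, φ, quotTower]
      exact (tenMap r).naturality (cokernel.π ((mult g (quotTower fs)).app n))
    rw [heq]
    exact proIso_comp (proIso_of_isIso _) (proIso_comp h (proIso_of_isIso _))

end Groth.Agent.InvDTen65
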