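import Mathlib
import Groth.Agent.InvDTen65.QuotTower
import Groth.Prelude.Def_ega3
import Groth.Agent.KFlatLib.SingleIso
import Groth.Agent.KFlatLib.Ring.LTen
import Groth.Agent.KFlatLib.Ring.LTen3
import Groth.Agent.H9Misc.DRingLTensorCx
import Groth.Agent.S6942

/-!
# Derived and plain reduction modulo the powers of an ideal
-/

set_option linter.style.haveILetI false
set_option backward.isDefEq.respectTransparency false
set_option linter.unusedSimpArgs false

universe u

open CategoryTheory CategoryTheory.Limits MonoidalCategory Opposite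

attribute [local instance] HasDerivedCategory.standard

namespace Groth.Agent.InvDTen65

open Groth.Agent.TowerLib.EssConst Groth.Agent.KFlatLib

variable {A : Type u} [CommRing A]

/-- The class of `1`. -/
noncomputable def adicMk (I : Ideal A) (n : ℕ) :
    ModuleCat.of A A ⟶ (CohIII.adicSystem I (ModuleCat.of A A)).obj (op n) :=
  ModuleCat.ofHom (Submodule.mkQ (I ^ (n + 1) • (⊤ : Submodule A A)))

instance (I : Ideal A) (n : ℕ) : Epi (adicMk I n) :=
  (ModuleCat.epi_iff_surjective _).2 (Submodule.mkQ_surjective _)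

lemma adicMk_tr (I : Ideal A) : ∀ {n m : ℕ} (h : n ≤ m),
    adicMk I m ≫ ARSys.tr (CohIII.adicSystem I (ModuleCat.of A A)) h = adicMk I n := by
  intro n m h
  induction m, h using Nat.le_induction with
  | base => rw [tr_refl, Category.comp_id]
  | succ m hnm ih =>
    rw [← tr_comp (CohIII.adicSystem I (ModuleCat.of A A)) hnm (Nat.le_succ m), ← Category.assoc]
    have hstep : adicMk I (m + 1) ≫ ARSys.tr (CohIII.adicSystem I (ModuleCat.of A A)) (Nat.le_succ m) =
        adicMk I m := by
      dsimp only [CohIII.adicSystem, ARSys.tr]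
      rw [Functor.ofOpSequence_map_homOfLE_succ]
      rfl
    rw [hstep, ih]

variable [IsNoetherianRing A]

/-- Moving a pro-isomorphism from the quotient towers to the adic tower. -/
theorem proIso_adic {D : Type*} [Category D] {G H : ModuleCat.{u} A ⥤ D} (τ : G ⟶ H) (I : Ideal A)
    (h : ∀ fs : List A, DerCA.IsProIso (Functor.whiskerLeft (quotTower fs) τ)) :
    DerCA.IsProIso (Functor.whiskerLeft (CohIII.adicSystem I (ModuleCat.of A A)) τ) := by
  obtain ⟨s, hs⟩ := (isNoetherianRing_iff_ideal_fg A).1 inferInstance I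
  let fs := s.toList
  have hfs : ∀ g ∈ fs, g ∈ I := fun g hg => hs ▸ Submodule.subset_span (Finset.mem_toList.1 hg)
  let M := quotTower fs
  let L := CohIII.adicSystem I (ModuleCat.of A A)
  intro n
  obtain ⟨v, hv⟩ : ∃ v : M.obj (op (n + 1)) ⟶ L.obj (op n), (augm fs).app _ ≫ v = adicMk I n :=
    exists_desc fs (op (n + 1)) (adicMk I n) fun g hg => by
      ext : 1
      refine LinearMap.ext_ring ?_
      change g ^ (n + 1) • (Submodule.Quotient.mk (1 : A) : A ⧸ (I ^ (n + 1) • (⊤ : Submodule A A))) = 0
      rw [← Submodule.Quotient.mk_smul, Submodule.Quotient.mk_eq_zero]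
      exact Submodule.smul_mem_smul (Ideal.pow_mem_pow (hfs g hg) _) Submodule.mem_top
  obtain ⟨m, hm, b, h1, h2⟩ := h fs (n + 1)
  obtain ⟨k, hk⟩ : ∃ k : ℕ, I ^ k ≤ LinearMap.ker ((augm fs).app (op m)).hom := by
    refine Ideal.exists_pow_le_of_le_radical_of_fg ?_ ((isNoetherianRing_iff_ideal_fg A).1 inferInstance I)
    rw [← hs, Submodule.span_le]
    intro g hg
    refine ⟨m, ?_⟩
    have e := congrArg (fun z => z.hom (1 : A)) (pow_smul_augm fs (op m) g (Finset.mem_toList.2 hg))
    change ((augm fs).app (op m)).hom (g ^ m) = 0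
    rw [show g ^ m = g ^ m • (1 : A) by simp, map_smul]
    exact e
  let p := max k n
  let w : L.obj (op p) ⟶ M.obj (op m) :=
    ModuleCat.ofHom (Submodule.liftQ _ ((augm fs).app (op m)).hom (by
      rw [Submodule.smul_le]
      intro r hr x _
      exact (hk.trans' (Ideal.pow_le_pow_right (show k ≤ p + 1 from (le_max_left k n).trans (Nat.le_succ _)))) (Ideal.mul_mem_right x _ hr)))
  have hw : adicMk I p ≫ w = (augm fs).app (op m) := rfl
  have key : w ≫ ARSys.tr M hm ≫ v = ARSys.tr L (le_max_right k n) := by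
    rw [← cancel_epi (adicMk I p), reassoc_of% hw, adicMk_tr, ← hv,
      ← tr_cancel (augm fs) hm, Category.assoc]
  refine ⟨p, le_max_right k n, H.map w ≫ b ≫ G.map v, ?_, ?_⟩
  · change τ.app (L.obj (op p)) ≫ H.map w ≫ b ≫ G.map v = G.map (ARSys.tr L (le_max_right k n))
    rw [← key, ← τ.naturality_assoc, G.map_comp, G.map_comp]
    erw [reassoc_of% h1]
  · change (H.map w ≫ b ≫ G.map v) ≫ τ.app (L.obj (op n)) = H.map (ARSys.tr L (le_max_right k n))
    rw [← key, H.map_comp, H.map_comp, Category.assoc, Category.assoc, τ.naturality]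
    erw [reassoc_of% h2]
where
  tr_cancel {fs : List A} (c : (Functor.const ℕᵒᵖ).obj (ModuleCat.of A A) ⟶ quotTower fs) {n m : ℕ}
      (h : n ≤ m) : c.app (op m) ≫ ARSys.tr (quotTower fs) h = c.app (op n) := cone_tr c h

omit [IsNoetherianRing A] in
/-- Tensoring with a module in degree zero is tensoring termwise. -/
noncomputable def tenMIso (K : DRing.Cx A) (M : ModuleCat.{u} A) :
    (tensorLeft K).obj ((HomologicalComplex.single (ModuleCat.{u} A) (ComplexShape.up ℤ) 0).obj M) ≅
      (tenM K).obj M :=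
  (singleIso (curriedTensor (ModuleCat.{u} A)) M).app K

omit [IsNoetherianRing A] in
/-- The natural isomorphism. -/
noncomputable def tenMNatIso (K : DRing.Cx A) :
    tenM K ≅ HomologicalComplex.single (ModuleCat.{u} A) (ComplexShape.up ℤ) 0 ⋙ tensorLeft K :=
  NatIso.ofComponents (fun M => (tenMIso K M).symm) fun {M N} u => by
    ext q : 1
    change (K.X q ◁ u) ≫ singleSummand (T := curriedTensor (ModuleCat.{u} A)) K N 0 q q (add_zero q) =
      singleSummand (T := curriedTensor (ModuleCat.{u} A)) K M 0 q q (add_zero q) ≫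
        (HomologicalComplex.mapBifunctorMap (𝟙 K)
          ((HomologicalComplex.single (ModuleCat.{u} A) (ComplexShape.up ℤ) 0).map u)
          (curriedTensor (ModuleCat.{u} A)) (ComplexShape.up ℤ)).f q
    simp only [singleSummand, Category.assoc]
    erw [HomologicalComplex.ι_mapBifunctorMap]
    simp only [HomologicalComplex.id_f, CategoryTheory.Functor.map_id, NatTrans.id_app, Category.id_comp,
      curriedTensor_obj_map, ← MonoidalCategory.whiskerLeft_comp_assoc, HomologicalComplex.single_map_f_self,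
      Iso.inv_hom_id_assoc]

omit [IsNoetherianRing A] in
lemma tenMNatIso_nat {F K : DRing.Cx A} (r : F ⟶ K) (M : ModuleCat.{u} A) :
    (tenMap r).app M ≫ (tenMNatIso K).hom.app M =
      (tenMNatIso F).hom.app M ≫ (r ▷ (HomologicalComplex.single (ModuleCat.{u} A) (ComplexShape.up ℤ) 0).obj M) :=
  (singleIso (curriedTensor (ModuleCat.{u} A)) M).inv.naturality r

theorem isProIso_εLeft [DTen.HasLTen A] (I : Ideal A) (K : DRing.Cx A) (a b : ℤ)
    (hK : DRing.VanishesOutside K a b) (hKf : ∀ i : ℤ, Module.Finite A (K.X i)) :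
    DerCA.IsProIso (Functor.whiskerLeft
      (CohIII.adicSystem I (ModuleCat.of A A) ⋙ HomologicalComplex.single (ModuleCat.{u} A) (ComplexShape.up ℤ) 0)
      (DTen.εLeft A K)) := by
  -- a free resolution
  have hpc : DRing.IsPseudoCoherent' A (DRing.toD K) := by
    refine (H9Misc.DRingPC.pc'_iff _).2 fun m => ((Groth.Agent.S6942.result A m _ PUnit).1).2 ⟨⟨b, fun i hi => ?_⟩, fun i _ => ?_⟩
    · exact ModuleCat.subsingleton_of_isZero (((ShortComplex.isZero_homology_of_isZero_X₂ _
        (hK i (Or.inr hi))).of_iso ((DerivedCategory.homologyFunctorFactors (ModuleCat.{u} A) i).app K)))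
    · haveI := hKf i
      haveI : IsNoetherian A (K.X i) := isNoetherian_of_isNoetherianRing_of_finite A _
      haveI : Module.Finite A (K.cycles i) :=
        Module.Finite.of_injective (K.iCycles i).hom ((ModuleCat.mono_iff_injective _).1 inferInstance)
      haveI : Module.Finite A ((HomologicalComplex.homologyFunctor (ModuleCat.{u} A) (ComplexShape.up ℤ) i).obj K) :=
        Module.Finite.of_surjective (K.homologyπ i).hom ((ModuleCat.epi_iff_surjective _).1 inferInstance)
      exact Module.Finite.equiv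
        (((DerivedCategory.homologyFunctorFactors (ModuleCat.{u} A) i).app K).symm.toLinearEquiv)
  obtain ⟨E, b₀, hb₀, hE, ⟨e⟩⟩ := hpc
  haveI : E.IsStrictlyLE b₀ := (CochainComplex.isStrictlyLE_iff E b₀).2 fun i hi => hb₀ i hi
  haveI : ∀ n, Projective (E.X n) := fun n =>
    haveI := (hE n).2; (IsProjective.iff_projective (E.X n)).1 inferInstance
  haveI : E.IsKProjective := CochainComplex.isKProjective_of_projective E b₀
  obtain ⟨r, hr⟩ := H9Misc.DRingLTensorCx.exists_quasiIso_of_iso e
  haveI := hr
  have hflat : ∀ i, Module.Flat A (E.X i) := fun i => haveI := (hE i).2; inferInstance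
  have hE' : KFlat (curriedTensor (ModuleCat.{u} A)) E :=
    H9Misc.DRingTor.isKF_of_flat hflat hb₀
  let S := HomologicalComplex.single (ModuleCat.{u} A) (ComplexShape.up ℤ) 0
  let τ : S ⋙ DerivedCategory.Q ⋙ (DTen.LTen A).obj (DerivedCategory.Q.obj K) ⟶
      S ⋙ tensorLeft K ⋙ DerivedCategory.Q := Functor.whiskerLeft S (DTen.εLeft A K)
  refine proIso_adic τ I fun fs => ?_
  haveI : IsIso (DerivedCategory.Q.map r) := (DerivedCategory.isIso_Q_map_iff_quasiIso _ _).2 inferInstance
  let comp : ∀ M : ModuleCat.{u} A, DerivedCategory.Q.obj ((tenM E).obj M) ≅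
      ((DTen.LTen A).obj (DerivedCategory.Q.obj K)).obj (DerivedCategory.Q.obj (S.obj M)) := fun M =>
    DerivedCategory.Q.mapIso ((tenMNatIso E).app M) ≪≫
      (@asIso _ _ _ _ ((DTen.ε A).app (E, S.obj M)) (isIso_ε hE' _)).symm ≪≫
      (DTen.LTen₂ A).mapIso (Iso.prod (asIso (DerivedCategory.Q.map r)) (Iso.refl _))
  let c : tenM E ⋙ DerivedCategory.Q ≅ S ⋙ DerivedCategory.Q ⋙ (DTen.LTen A).obj (DerivedCategory.Q.obj K) :=
    NatIso.ofComponents comp fun {M N} u => by
      have n1 : (DerivedCategory.Q : DRing.Cx A ⥤ _).map ((tenM E).map u) ≫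
          DerivedCategory.Q.map ((tenMNatIso E).hom.app N) =
          DerivedCategory.Q.map ((tenMNatIso E).hom.app M) ≫ DerivedCategory.Q.map (E ◁ S.map u) := by
        rw [← Functor.map_comp, ← Functor.map_comp]
        exact congrArg _ ((tenMNatIso E).hom.naturality u)
      have n2 := (DTen.εLeft A E).naturality (S.map u)
      haveI : IsIso ((DTen.ε A).app (E, S.obj M)) := isIso_ε hE' _
      haveI : IsIso ((DTen.ε A).app (E, S.obj N)) := isIso_ε hE' _
      have n2' : DerivedCategory.Q.map (E ◁ S.map u) ≫ inv ((DTen.ε A).app (E, S.obj N)) =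
          inv ((DTen.ε A).app (E, S.obj M)) ≫
            ((DTen.LTen A).obj (DerivedCategory.Q.obj E)).map (DerivedCategory.Q.map (S.map u)) := by
        rw [IsIso.eq_inv_comp, ← Category.assoc, IsIso.comp_inv_eq]
        exact n2.symm
      change DerivedCategory.Q.map ((tenM E).map u) ≫ (comp N).hom = (comp M).hom ≫ _
      simp only [comp, Iso.trans_hom, Functor.mapIso_hom, Iso.symm_hom, asIso_inv, Iso.app_hom, Category.assoc]
      rw [reassoc_of% n1, reassoc_of% n2']
      congr 2
      exact ((((DTen.LTen A).map (DerivedCategory.Q.map r)).naturality (DerivedCategory.Q.map (S.map u))))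
  have hq := proIso_quotTower r hK hKf hflat fs
  have heq : Functor.whiskerLeft (quotTower fs) τ =
      Functor.whiskerLeft (quotTower fs) c.inv ≫
        Functor.whiskerRight (Functor.whiskerLeft (quotTower fs) (tenMap r)) DerivedCategory.Q ≫
          Functor.whiskerLeft (quotTower fs) (Functor.whiskerRight (tenMNatIso K).hom DerivedCategory.Q) := by
    refine NatTrans.ext (funext fun n => ?_)
    simp only [NatTrans.comp_app, Functor.whiskerLeft_app, Functor.whiskerRight_app]
    change τ.app _ = (comp _).inv ≫ _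
    rw [Iso.eq_inv_comp, ← Functor.map_comp, tenMNatIso_nat, Functor.map_comp]
    haveI : IsIso ((DTen.ε A).app (E, S.obj ((quotTower fs).obj n))) := isIso_ε hE' _
    simp only [comp, Iso.trans_hom, Functor.mapIso_hom, Iso.symm_hom, asIso_inv, Iso.app_hom, Category.assoc]
    congr 1
    rw [IsIso.inv_comp_eq]
    have n3 := (DTen.ε A).naturality (Prod.mkHom r (𝟙 (S.obj ((quotTower fs).obj n))))
    simp only [τ, Functor.whiskerLeft_app]
    dsimp [DTen.εLeft] at n3 ⊢
    simpa using n3
  rw [heq]
  haveI : IsIso (Functor.whiskerLeft (quotTower fs) c.inv) :=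
    @NatIso.isIso_of_isIso_app _ _ _ _ _ _ _ fun n => inferInstanceAs (IsIso (c.inv.app _))
  haveI : IsIso (Functor.whiskerLeft (quotTower fs) (Functor.whiskerRight (tenMNatIso K).hom
      (DerivedCategory.Q : DRing.Cx A ⥤ Dual.D A))) :=
    @NatIso.isIso_of_isIso_app _ _ _ _ _ _ _ fun n =>
      inferInstanceAs (IsIso (DerivedCategory.Q.map ((tenMNatIso K).hom.app _)))
  exact proIso_comp (proIso_of_isIso _) (proIso_comp hq (proIso_of_isIso _))

end Groth.Agent.InvDTen65
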