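import Mathlib
import Groth.Agent.H9Misc.DRingPerfect
import Groth.Agent.H9Misc.DRingPC
import Groth.Agent.S6942

/-!
# Perfectness from vanishing of maps into residue fields
-/

set_option linter.style.haveILetI false

universe u

open CategoryTheory CategoryTheory.Category CategoryTheory.Limits TensorProduct

attribute [local instance] HasDerivedCategory.standard

namespace Groth.Agent.InvDTen65

variable {A : Type u} [CommRing A]

/-- Functionals on `M` with values in the residue field extend along `f` ⇒ residual injectivity. -/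
lemma injective_lTensor_residue {R : Type u} [CommRing R] [IsLocalRing R] {M N : Type u}
    [AddCommGroup M] [Module R M] [AddCommGroup N] [Module R N] (l : M →ₗ[R] N)
    (h : ∀ φ : M →ₗ[R] IsLocalRing.ResidueField R, ∃ s : N →ₗ[R] IsLocalRing.ResidueField R, s ∘ₗ l = φ) :
    Function.Injective (l.lTensor (IsLocalRing.ResidueField R)) := by
  let k := IsLocalRing.ResidueField R
  refine (injective_iff_map_eq_zero _).2 fun x hx => ?_
  refine (Module.forall_dual_apply_eq_zero_iff k x).1 fun f => ?_
  obtain ⟨s, hs⟩ := h ((f.restrictScalars R) ∘ₗ (TensorProduct.mk R k M 1))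
  let F : k ⊗[R] N →ₗ[k] k := LinearMap.liftBaseChange k s
  have hF : ∀ y : k ⊗[R] M, F (l.lTensor k y) = f y := by
    intro y
    induction y using TensorProduct.induction_on with
    | zero => simp
    | tmul c m =>
      have h1 : s (l m) = f (1 ⊗ₜ[R] m) := LinearMap.congr_fun hs m
      rw [LinearMap.lTensor_tmul, LinearMap.liftBaseChange_tmul, h1, ← map_smul, smul_tmul', smul_eq_mul, mul_one]
    | add y z hy hz => simp only [map_add, hy, hz]
  rw [← hF x, hx, map_zero]

variable [IsNoetherianRing A]

/-- If every functional to `A/m` extends along `f`, the cokernel is free at `m`. -/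
lemma mem_freeLocus_of_extends {M N P : Type u} [AddCommGroup M] [Module A M] [Module.Finite A M]
    [AddCommGroup N] [Module A N] [Module.Finite A N] [Module.Free A N]
    [AddCommGroup P] [Module A P] (f : M →ₗ[A] N) (g : N →ₗ[A] P) (hg : Function.Surjective g)
    (hex : Function.Exact f g) (m : PrimeSpectrum A) [m.asIdeal.IsMaximal]
    (h : ∀ φ : M →ₗ[A] (A ⧸ m.asIdeal), ∃ s : N →ₗ[A] (A ⧸ m.asIdeal), s ∘ₗ f = φ) :
    m ∈ Module.freeLocus A P := by
  let S := m.asIdeal.primeCompl
  let R := Localization.AtPrime m.asIdeal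
  rw [Module.mem_freeLocus]
  haveI : Module.Finite R (LocalizedModule S M) :=
    Module.Finite.of_isLocalizedModule S (LocalizedModule.mkLinearMap S M)
  haveI : Module.Finite R (LocalizedModule S N) :=
    Module.Finite.of_isLocalizedModule S (LocalizedModule.mkLinearMap S N)
  haveI : Module.Free R (LocalizedModule S N) :=
    Module.free_of_isLocalizedModule (S := S) (LocalizedModule.mkLinearMap S N)
  refine Module.free_of_lTensor_residueField_injective (LocalizedModule.map S f) (LocalizedModule.map S g)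
    (LocalizedModule.map_surjective S g hg) (LocalizedModule.map_exact S f g hex) ?_
  refine injective_lTensor_residue _ fun ψ => ?_
  let k := IsLocalRing.ResidueField R
  let c₀ : (A ⧸ m.asIdeal) →ₐ[A] k := IsScalarTower.toAlgHom A (A ⧸ m.asIdeal) m.asIdeal.ResidueField
  have hc : Function.Bijective c₀.toLinearMap := m.asIdeal.bijective_algebraMap_quotient_residueField
  let c : (A ⧸ m.asIdeal) ≃ₗ[A] k := LinearEquiv.ofBijective c₀.toLinearMap hc
  obtain ⟨s, hs⟩ := h (c.symm.toLinearMap ∘ₗ (ψ.restrictScalars A) ∘ₗ LocalizedModule.mkLinearMap S M)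
  have hu : ∀ x : S, IsUnit ((algebraMap A (Module.End A k)) x) := fun x => by
    rw [Module.End.isUnit_iff]
    have hx : IsUnit (algebraMap A k x) := by
      rw [IsScalarTower.algebraMap_apply A R k]
      exact (IsLocalization.map_units R x).map _
    obtain ⟨v, hv⟩ := hx
    refine ⟨fun a b hab => ?_, fun b => ⟨(↑v⁻¹ : k) * b, ?_⟩⟩
    · simp only [Module.algebraMap_end_apply, Algebra.smul_def, ← hv] at hab
      exact v.isUnit.mul_left_cancel hab
    · simp only [Module.algebraMap_end_apply, Algebra.smul_def, ← hv]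
      rw [← mul_assoc, Units.mul_inv, one_mul]
  let s' : LocalizedModule S N →ₗ[A] k := LocalizedModule.lift S (c.toLinearMap ∘ₗ s) hu
  refine ⟨s'.extendScalarsOfIsLocalization S R, ?_⟩
  apply LinearMap.restrictScalars_injective A
  refine IsLocalizedModule.ext S (LocalizedModule.mkLinearMap S M) hu (LinearMap.ext fun x => ?_)
  change s' (LocalizedModule.map S f (LocalizedModule.mkLinearMap S M x)) = ψ (LocalizedModule.mkLinearMap S M x)
  rw [LocalizedModule.mkLinearMap_apply, LocalizedModule.map_mk]
  change s' (LocalizedModule.mk (f x) 1) = _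
  have h2 : c.symm (ψ (LocalizedModule.mk x 1)) = s (f x) := (LinearMap.congr_fun hs x).symm
  rw [show s' (LocalizedModule.mk (f x) 1) = c (s (f x)) by
      simp [s', LocalizedModule.lift_mk]]
  rw [← h2, LinearEquiv.apply_symm_apply]

/-- The free locus of the kernel of a surjection contains that of the quotient. -/
lemma freeLocus_le_kernel {M N P : Type u} [AddCommGroup M] [Module A M] [Module.Finite A M]
    [AddCommGroup N] [Module A N] [Module.Finite A N] [Module.Projective A N]
    [AddCommGroup P] [Module A P] (f : M →ₗ[A] N) (g : N →ₗ[A] P) (hf : Function.Injective f)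
    (hg : Function.Surjective g) (hex : Function.Exact f g) :
    Module.freeLocus A P ⊆ Module.freeLocus A M := by
  intro p hp
  rw [Module.mem_freeLocus] at hp ⊢
  let S := p.asIdeal.primeCompl
  let R := Localization.AtPrime p.asIdeal
  haveI : Module.Free R (LocalizedModule S P) := hp
  haveI : Module.Projective R (LocalizedModule S N) :=
    Module.projective_of_isLocalizedModule S (LocalizedModule.mkLinearMap S N)
  haveI : Module.Finite R (LocalizedModule S M) :=
    Module.Finite.of_isLocalizedModule S (LocalizedModule.mkLinearMap S M)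
  let fR : LocalizedModule S M →ₗ[R] LocalizedModule S N := LocalizedModule.map S f
  let gR : LocalizedModule S N →ₗ[R] LocalizedModule S P := LocalizedModule.map S g
  have hf' : Function.Injective fR := LocalizedModule.map_injective S f hf
  have hg' : Function.Surjective gR := LocalizedModule.map_surjective S g hg
  have hex' : Function.Exact fR gR := LocalizedModule.map_exact S f g hex
  have key := (Function.Exact.split_tfae hex' hf' hg').out 0 1
  obtain ⟨τ, hτ⟩ := key.mp (Module.projective_lifting_property gR LinearMap.id hg')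
  haveI : Module.Projective R (LocalizedModule S M) := Module.Projective.of_split _ _ hτ
  exact Module.free_of_flat_of_isLocalRing

variable (A) in
/-- An increasing union of open free loci containing every maximal ideal is everything. -/
lemma exists_projective_of_free_at_maximal (W : ℕ → Type u) [∀ n, AddCommGroup (W n)]
    [∀ n, Module A (W n)] [∀ n, Module.Finite A (W n)]
    (hmono : ∀ n, Module.freeLocus A (W n) ⊆ Module.freeLocus A (W (n + 1)))
    (hmax : ∀ (p : PrimeSpectrum A), p.asIdeal.IsMaximal → ∃ n, p ∈ Module.freeLocus A (W n)) :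
    ∃ n, Module.Projective A (W n) := by
  haveI : ∀ n, Module.FinitePresentation A (W n) := fun n => Module.finitePresentation_of_finite A _
  have hm : Monotone fun n => Module.freeLocus A (W n) := monotone_nat_of_le_succ hmono
  have hcov : (Set.univ : Set (PrimeSpectrum A)) ⊆ ⋃ n, Module.freeLocus A (W n) := by
    intro p _
    obtain ⟨M, hM, hle⟩ := Ideal.exists_le_maximal p.asIdeal p.isPrime.ne_top
    obtain ⟨n, hn⟩ := hmax ⟨M, hM.isPrime⟩ hM
    refine Set.mem_iUnion.2 ⟨n, ((PrimeSpectrum.le_iff_specializes p ⟨M, hM.isPrime⟩).1 hle).mem_open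
      Module.isOpen_freeLocus hn⟩
  obtain ⟨n, hn⟩ := isCompact_univ.elim_directed_cover _ (fun n => Module.isOpen_freeLocus) hcov
    hm.directed_le
  exact ⟨n, Module.freeLocus_eq_univ_iff.1 (Set.univ_subset_iff.1 hn)⟩

omit [IsNoetherianRing A] in
/-- Cocycles of a K-projective complex killed in the derived category are coboundaries. -/
lemma exists_extension {E : DRing.Cx A} [E.IsKProjective] (j : ℤ) (T : ModuleCat.{u} A)
    (h0 : ∀ g : DerivedCategory.Q.obj E ⟶ (DerivedCategory.singleFunctor (ModuleCat.{u} A) j).obj T, g = 0)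
    (φ : E.X j ⟶ T) (hφ : E.d (j - 1) j ≫ φ = 0) :
    ∃ s : E.X (j + 1) ⟶ T, E.d j (j + 1) ≫ s = φ := by
  let ψ : E ⟶ (HomologicalComplex.single (ModuleCat.{u} A) (ComplexShape.up ℤ) j).obj T :=
    HomologicalComplex.mkHomToSingle φ fun i hi => by
      obtain rfl : i = j - 1 := by simp at hi; omega
      exact hφ
  have h1 : DerivedCategory.Q.map ψ = 0 := h0 (DerivedCategory.Q.map ψ)
  have h2 : (HomotopyCategory.quotient _ _).map ψ = (HomotopyCategory.quotient _ _).map 0 := by
    apply (CochainComplex.IsKProjective.Qh_map_bijective E _).injective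
    have e := fun β : E ⟶ (HomologicalComplex.single (ModuleCat.{u} A) (ComplexShape.up ℤ) j).obj T => (DerivedCategory.quotientCompQhIso (ModuleCat.{u} A)).hom.naturality β
    rw [← cancel_mono ((DerivedCategory.quotientCompQhIso (ModuleCat.{u} A)).hom.app _)]
    refine (e ψ).trans ((congrArg _ ?_).trans (e 0).symm)
    exact h1.trans (Functor.map_zero _ _ _).symm
  let H := HomotopyCategory.homotopyOfEq _ _ h2
  have hc := H.comm j
  rw [dNext_eq H.hom (show (ComplexShape.up ℤ).Rel j (j + 1) by simp),
    prevD_eq H.hom (show (ComplexShape.up ℤ).Rel (j - 1) j by simp)] at hc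
  simp only [HomologicalComplex.single_obj_d, comp_zero, add_zero, HomologicalComplex.zero_f_apply] at hc
  refine ⟨H.hom (j + 1) j ≫ (HomologicalComplex.singleObjXSelf (ComplexShape.up ℤ) j T).hom, ?_⟩
  rw [← Category.assoc, ← hc, HomologicalComplex.mkHomToSingle_f, Category.assoc, Iso.inv_hom_id,
    Category.comp_id]

/-- An object with finite bounded cohomology and eventually no maps to residue fields is perfect. -/
theorem isPerfect_of_residue_vanishing {L : Dual.D A} (a b : ℤ)
    (hfin : ∀ i : ℤ, Module.Finite A (Dual.HD A L i))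
    (hb : ∀ i : ℤ, (i < a ∨ b < i) → Subsingleton (Dual.HD A L i))
    (hres : ∀ m : Ideal A, m.IsMaximal → ∃ c : ℤ, ∀ j : ℤ, j < c →
      ∀ g : L ⟶ (DerivedCategory.singleFunctor (ModuleCat.{u} A) j).obj (ModuleCat.of A (A ⧸ m)), g = 0) :
    DRing.IsPerfect A L := by
  have hpc : DRing.IsPseudoCoherent' A L := (H9Misc.DRingPC.pc'_iff L).2 fun m =>
    ((Groth.Agent.S6942.result A m L PUnit).1).2 ⟨⟨b, fun i hi => hb i (Or.inr hi)⟩, fun i _ => hfin i⟩
  obtain ⟨E, b₀, hb₀, hE, ⟨e⟩⟩ := hpc
  haveI : E.IsStrictlyLE b₀ := (CochainComplex.isStrictlyLE_iff E b₀).2 fun i hi => hb₀ i hi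
  haveI : ∀ n, Projective (E.X n) := fun n =>
    haveI := (hE n).2; (IsProjective.iff_projective (E.X n)).1 inferInstance
  haveI : E.IsKProjective := CochainComplex.isKProjective_of_projective E b₀
  haveI : ∀ n, Module.Finite A (E.X n) := fun n => (hE n).1
  haveI : ∀ n, Module.Free A (E.X n) := fun n => (hE n).2
  have hexact : ∀ i, i < a → E.ExactAt i := fun i hi => by
    rw [HomologicalComplex.exactAt_iff_isZero_homology]
    haveI := hb i (Or.inl hi)
    exact (ModuleCat.isZero_of_subsingleton (ModuleCat.of A (Dual.HD A L i))).of_iso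
      (((DerivedCategory.homologyFunctorFactors (ModuleCat.{u} A) i).app E).symm ≪≫
        (DerivedCategory.homologyFunctor (ModuleCat.{u} A) i).mapIso e)
  let B : ℤ → (i : ℤ) → Submodule A (E.X i) := fun j i => LinearMap.range (E.d j i).hom
  have hdd : ∀ j i l : ℤ, B j i ≤ LinearMap.ker (E.d i l).hom := fun j i l => by
    rintro _ ⟨x, rfl⟩
    exact LinearMap.congr_fun (congrArg ModuleCat.Hom.hom (E.d_comp_d j i l)) x
  -- the step
  let f : ∀ j : ℤ, (E.X j ⧸ B (j - 1) j) →ₗ[A] E.X (j + 1) := fun j =>
    Submodule.liftQ _ (E.d j (j + 1)).hom (hdd _ _ _)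
  have hf : ∀ j, j < a → Function.Injective (f j) := fun j hj => by
    rw [← LinearMap.ker_eq_bot, Submodule.ker_liftQ_eq_bot]
    intro x hx
    have := ((E.exactAt_iff' (j - 1) j (j + 1) (by simp) (by simp)).1 (hexact j hj))
    rw [ShortComplex.moduleCat_exact_iff] at this
    obtain ⟨y, hy⟩ := this x hx
    exact ⟨y, hy⟩
  let g : ∀ j : ℤ, E.X (j + 1) →ₗ[A] E.X (j + 1) ⧸ B j (j + 1) := fun j => Submodule.mkQ _
  have hex : ∀ j, Function.Exact (f j) (g j) := fun j => by
    rw [LinearMap.exact_iff, Submodule.ker_mkQ, Submodule.range_liftQ]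
  have hg : ∀ j, Function.Surjective (g j) := fun j => Submodule.mkQ_surjective _
  let W : ℕ → Type u := fun n => E.X (a - 1 - n) ⧸ B (a - 1 - n - 1) (a - 1 - n)
  have hcast : ∀ {i i' k k' : ℤ}, i = i' → k = k' →
      Module.freeLocus A (E.X i ⧸ B k i) = Module.freeLocus A (E.X i' ⧸ B k' i') := by
    rintro i i' k k' rfl rfl; rfl
  obtain ⟨n, hn⟩ := exists_projective_of_free_at_maximal A W (fun n => by
      have h := freeLocus_le_kernel (f (a - 1 - n - 1)) (g _) (hf _ (by omega)) (hg _) (hex _)
      change Module.freeLocus A (E.X (a - 1 - n) ⧸ B (a - 1 - n - 1) (a - 1 - n)) ⊆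
        Module.freeLocus A (E.X (a - 1 - (n + 1 : ℕ)) ⧸ B (a - 1 - (n + 1 : ℕ) - 1) (a - 1 - (n + 1 : ℕ)))
      rw [hcast (show a - 1 - n = a - 1 - n - 1 + 1 by omega) rfl,
        hcast (show a - 1 - ((n + 1 : ℕ) : ℤ) = a - 1 - n - 1 by omega)
          (show a - 1 - ((n + 1 : ℕ) : ℤ) - 1 = a - 1 - n - 1 - 1 by omega)]
      exact h)
    (fun p hp => by
      haveI := hp
      obtain ⟨c, hc⟩ := hres p.asIdeal hp
      let n := (a - c).toNat
      refine ⟨n, ?_⟩
      let j : ℤ := a - 1 - n - 1
      change p ∈ Module.freeLocus A (E.X (a - 1 - n) ⧸ B (a - 1 - n - 1) (a - 1 - n))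
      rw [hcast (show a - 1 - (n : ℤ) = j + 1 by omega) rfl]
      refine mem_freeLocus_of_extends (f j) (g j) (hg j) (hex j) p fun φ => ?_
      have h0 : ∀ q : DerivedCategory.Q.obj E ⟶
          (DerivedCategory.singleFunctor (ModuleCat.{u} A) j).obj (ModuleCat.of A (A ⧸ p.asIdeal)), q = 0 :=
        fun q => by
          rw [← cancel_epi e.inv]
          exact (hc j (by omega) _).trans comp_zero.symm
      obtain ⟨s, hs⟩ := exists_extension j _ h0
        (ModuleCat.ofHom (φ ∘ₗ (B (j - 1) j).mkQ)) (by
          ext x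
          change φ (Submodule.Quotient.mk _) = 0
          exact (congrArg φ ((Submodule.Quotient.mk_eq_zero _).2
            (show (E.d (j - 1) j).hom x ∈ B (j - 1) j from ⟨x, rfl⟩))).trans (map_zero φ))
      refine ⟨s.hom, Submodule.linearMap_qext _ ?_⟩
      exact congrArg ModuleCat.Hom.hom hs)
  let j₀ : ℤ := a - 1 - n
  haveI : Module.Projective A (E.X j₀ ⧸ B (j₀ - 1) j₀) := hn
  let eo : E.opcycles j₀ ≅ ModuleCat.of A (E.X j₀ ⧸ B (j₀ - 1) j₀) :=
    ((cokernelIsCokernel (E.d (j₀ - 1) j₀)).coconePointUniqueUpToIso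
      (E.opcyclesIsCokernel (j₀ - 1) j₀ (by simp))).symm ≪≫
        ModuleCat.cokernelIsoRangeQuotient (E.d (j₀ - 1) j₀)
  haveI : E.IsGE j₀ := (CochainComplex.isGE_iff E j₀).2 fun i hi => hexact i (by omega)
  refine ⟨E.truncGE j₀, j₀, b₀, fun i hi => ?_, fun i => ?_,
    ⟨(asIso (DerivedCategory.Q.map (E.πTruncGE j₀))).symm ≪≫ e⟩⟩
  · rcases lt_or_ge i j₀ with hij | hij
    · exact CochainComplex.isZero_of_isStrictlyGE _ j₀ i hij
    have hib : b₀ < i := hi.resolve_left (by omega)
    rcases eq_or_lt_of_le hij with rfl | hlt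
    · exact (IsZero.of_epi (E.pOpcycles j₀) (hb₀ j₀ hib)).of_iso (E.truncGEXIsoOpcycles j₀)
    · exact (hb₀ i hib).of_iso (E.truncGEXIso j₀ i hlt)
  · rcases lt_trichotomy i j₀ with hi | rfl | hi
    · haveI := ModuleCat.subsingleton_of_isZero (CochainComplex.isZero_of_isStrictlyGE (E.truncGE j₀) j₀ i hi)
      exact ⟨inferInstance, inferInstance⟩
    · exact ⟨Module.Finite.equiv ((E.truncGEXIsoOpcycles j₀) ≪≫ eo).symm.toLinearEquiv,
        Module.Projective.of_equiv ((E.truncGEXIsoOpcycles j₀) ≪≫ eo).symm.toLinearEquiv⟩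
    · exact ⟨Module.Finite.equiv (E.truncGEXIso j₀ i hi).symm.toLinearEquiv,
        Module.Projective.of_equiv (E.truncGEXIso j₀ i hi).symm.toLinearEquiv⟩

end Groth.Agent.InvDTen65
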